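import Groth.Agent.Lib.LimTop.PC
import Groth.Agent.Lib.Subtrusive.ProConstructible
import Groth.Agent.H47.ConsPreimage
import Mathlib.AlgebraicGeometry.Morphisms.FinitePresentation
import Mathlib.AlgebraicGeometry.Noetherian

/-!
# Pro-constructible and ind-constructible subsets of schemes

The dictionary between `ProCons.IsProConstructible`, `ProCons.IsIndConstructible` and the
constructible topology, and the behaviour of these notions under images.
-/

universe u

open CategoryTheory Limits AlgebraicGeometry TopologicalSpace Topology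
open Groth.Agent.Lib.LimTop.PC

namespace Groth.Agent.Lib.ProCons45.Basic

section General

variable {X Y : Type*} [TopologicalSpace X] [TopologicalSpace Y]

theorem isOpen_compl_cons {s : Set X} :
    IsOpen[constructibleTopology X] sᶜ ↔ IsClosed[constructibleTopology X] s :=
  @isOpen_compl_iff _ _ (constructibleTopology X)

theorem isClosed_compl_cons {s : Set X} :
    IsClosed[constructibleTopology X] sᶜ ↔ IsOpen[constructibleTopology X] s :=
  @isClosed_compl_iff _ (constructibleTopology X) _

/-- In a quasi-compact quasi-separated space, a set which is open for the constructible topology is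
a union of constructible sets. -/
theorem exists_constructible_subset [CompactSpace X] [QuasiSeparatedSpace X] {s : Set X}
    (hs : IsOpen[constructibleTopology X] s) {x : X} (hx : x ∈ s) :
    ∃ C, IsConstructible C ∧ x ∈ C ∧ C ⊆ s := by
  change GenerateOpen _ s at hs
  induction hs with
  | basic u hu =>
    rcases hu with ⟨ho, hc⟩ | ⟨hcl, hc⟩
    · exact ⟨u, hc.isConstructible ho, hx, le_rfl⟩
    · exact ⟨u, (compl_compl u) ▸ (hc.isConstructible hcl.isOpen_compl).compl, hx, le_rfl⟩
  | univ => exact ⟨Set.univ, .univ, hx, le_rfl⟩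
  | inter a b _ _ iha ihb =>
    obtain ⟨C, hC, hxC, hCa⟩ := iha hx.1
    obtain ⟨D, hD, hxD, hDb⟩ := ihb hx.2
    exact ⟨C ∩ D, hC.inter hD, ⟨hxC, hxD⟩, Set.inter_subset_inter hCa hDb⟩
  | sUnion S _ ih =>
    obtain ⟨t, ht, hxt⟩ := hx
    obtain ⟨C, hC, hxC, hCt⟩ := ih t ht hxt
    exact ⟨C, hC, hxC, hCt.trans (Set.subset_sUnion_of_mem ht)⟩

theorem compactSpace_cons [CompactSpace X] [QuasiSober X] [PrespectralSpace X]
    [QuasiSeparatedSpace X] : @CompactSpace X (constructibleTopology X) :=
  @Function.Surjective.compactSpace (WithConstructibleTopology X) X _ (constructibleTopology X)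
    WithTopology.ofTopology (WithTopology.continuous_ofTopology _)
    compactSpace_withConstructibleTopology (WithTopology.ofTopology_surjective _)

/-- A clopen set for the constructible topology of a spectral space is constructible. -/
theorem isConstructible_of_clopen [CompactSpace X] [QuasiSober X] [PrespectralSpace X]
    [QuasiSeparatedSpace X] {s : Set X} (ho : IsOpen[constructibleTopology X] s)
    (hcl : IsClosed[constructibleTopology X] s) : IsConstructible s := by
  choose C hC hxC hCs using fun x : s => exists_constructible_subset ho x.2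
  have hc : @IsCompact X (constructibleTopology X) s :=
    @IsClosed.isCompact X (constructibleTopology X) s compactSpace_cons hcl
  obtain ⟨t, ht⟩ := @IsCompact.elim_finite_subcover X (constructibleTopology X) _ _ hc C
    (fun x => (isClopen_cons_of_isConstructible (hC x)).2)
    (fun x hx => Set.mem_iUnion.mpr ⟨⟨x, hx⟩, hxC ⟨x, hx⟩⟩)
  have : s = ⋃ x ∈ (t : Set s), C x :=
    Set.Subset.antisymm ht (Set.iUnion₂_subset fun x _ => hCs x)
  rw [this]
  exact .biUnion t.finite_toSet fun x _ => hC x

/-- The image of a set which is open for the constructible topology under an open embedding of a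
quasi-compact space is open for the constructible topology. -/
theorem isOpen_cons_image {e : X → Y} (he : IsOpenEmbedding e) [CompactSpace X] {s : Set X}
    (hs : IsOpen[constructibleTopology X] s) : IsOpen[constructibleTopology Y] (e '' s) := by
  have huniv : IsOpen[constructibleTopology Y] (e '' Set.univ) :=
    isOpen_cons (he.isOpenMap _ isOpen_univ) (isCompact_univ.image he.continuous)
  change GenerateOpen _ s at hs
  induction hs with
  | basic u hu =>
    rcases hu with ⟨ho, hc⟩ | ⟨hcl, hc⟩
    · exact isOpen_cons (he.isOpenMap _ ho) (hc.image he.continuous)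
    · have heq : e '' u = e '' Set.univ ∩ (e '' uᶜ)ᶜ := by
        ext y
        constructor
        · rintro ⟨x, hx, rfl⟩
          exact ⟨⟨x, trivial, rfl⟩, fun ⟨x', hx', he'⟩ => hx' (he.injective he' ▸ hx)⟩
        · rintro ⟨⟨x, -, rfl⟩, hx⟩
          exact ⟨x, by_contra fun h => hx ⟨x, h, rfl⟩, rfl⟩
      rw [heq]
      exact @IsOpen.inter _ (constructibleTopology Y) _ _ huniv
        (isOpen_compl_cons.mpr
          (isClosed_cons (he.isOpenMap _ hcl.isOpen_compl) (hc.image he.continuous)))
  | univ => exact huniv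
  | inter a b _ _ iha ihb =>
    rw [Set.image_inter he.injective]
    exact @IsOpen.inter _ (constructibleTopology Y) _ _ iha ihb
  | sUnion S _ ih =>
    rw [Set.image_sUnion]
    exact @isOpen_sUnion _ (constructibleTopology Y) _ (by rintro _ ⟨t, ht, rfl⟩; exact ih t ht)

omit [TopologicalSpace Y] in
theorem isLocallyConstructible_compl {s : Set X} (hs : IsLocallyConstructible s) :
    IsLocallyConstructible sᶜ := fun x => by
  obtain ⟨U, hU, hUo, h⟩ := hs x
  exact ⟨U, hU, hUo, h.compl⟩

omit [TopologicalSpace Y] in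
theorem isProConstructible_compl_iff {E : Set X} :
    ProCons.IsProConstructible Eᶜ ↔ ProCons.IsIndConstructible E := by
  constructor
  · intro h x
    obtain ⟨U, hU, hxU, S, hS, hES⟩ := h x
    refine ⟨U, hU, hxU, compl '' S, ?_, ?_⟩
    · rintro _ ⟨T, hT, rfl⟩
      exact isLocallyConstructible_compl (hS T hT)
    · rw [← Set.compl_sInter, ← hES]
      simp
  · intro h x
    obtain ⟨U, hU, hxU, S, hS, hES⟩ := h x
    refine ⟨U, hU, hxU, compl '' S, ?_, ?_⟩
    · rintro _ ⟨T, hT, rfl⟩
      exact isLocallyConstructible_compl (hS T hT)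
    · rw [Set.preimage_compl, hES, Set.compl_sUnion]

end General

variable {X Y : Scheme.{u}}

/-- `IsPC` is `IsProConstructible`. -/
theorem isProConstructible_iff_isPC {E : Set X} : ProCons.IsProConstructible E ↔ IsPC E := by
  refine ⟨IsPC.of_isProConstructible, fun hE x => ?_⟩
  obtain ⟨U, hU, hxU, -⟩ := exists_isAffineOpen_mem_and_subset (x := x) (U := ⊤) trivial
  have : IsAffine (U : Scheme.{u}) := hU
  refine ⟨U, U.2, hxU, {T : Set ↥(U : Set X) | IsLocallyConstructible T ∧
    (Subtype.val ⁻¹' E : Set ↥(U : Set X)) ⊆ T}, fun T h => h.1,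
    Set.Subset.antisymm (fun a ha T hT => hT.2 ha) fun a ha => ?_⟩
  by_contra hne
  obtain ⟨C, hC, haC, hCE⟩ := exists_constructible_subset (X := (U : Scheme.{u}))
    (s := (⇑U.ι ⁻¹' E)ᶜ) (isOpen_compl_cons.mpr (hE U hU)) (x := a) hne
  exact ha Cᶜ ⟨hC.compl.isLocallyConstructible, fun b hb hbC => hCE hbC hb⟩ haC

theorem isIndConstructible_iff_isPC {E : Set X} : ProCons.IsIndConstructible E ↔ IsPC Eᶜ :=
  isProConstructible_compl_iff.symm.trans isProConstructible_iff_isPC

theorem isLocallyConstructible_iff_isPC {E : Set X} :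
    IsLocallyConstructible E ↔ IsPC E ∧ IsPC Eᶜ := by
  refine ⟨fun h => ⟨.of_isLocallyConstructible h, .compl_of_isLocallyConstructible h⟩,
    fun h x => ?_⟩
  obtain ⟨U, hU, hxU, -⟩ := exists_isAffineOpen_mem_and_subset (x := x) (U := ⊤) trivial
  have : IsAffine (U : Scheme.{u}) := hU
  exact ⟨U, U.2.mem_nhds hxU, U.2,
    isConstructible_of_clopen (X := (U : Scheme.{u})) (isClosed_compl_cons.mp (h.2 U hU))
      (h.1 U hU)⟩

/-- Quasi-compactness of the constructible topology. -/
theorem exists_finset_inter_eq_empty [CompactSpace X] {Z : Set X} (hZ : IsPC Z) {ι : Type*}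
    {A : ι → Set X} (hA : ∀ i, IsPC (A i)) (h : Z ∩ ⋂ i, A i = ∅) :
    ∃ J : Finset ι, Z ∩ ⋂ i ∈ J, A i = ∅ := by
  classical
  have key : ∀ U : X.Opens, IsAffineOpen U →
      ∃ J : Finset ι, ((U : Set X) ∩ (Z ∩ ⋂ i ∈ J, A i)) = ∅ := by
    intro U hU
    have : IsAffine (U : Scheme.{u}) := hU
    obtain ⟨J, hJ⟩ := @IsCompact.elim_finite_subfamily_closed _ (constructibleTopology _) _ _
      (@IsClosed.isCompact _ (constructibleTopology _) _ compactSpace_cons (hZ U hU))
      (fun i => ⇑U.ι ⁻¹' A i) (fun i => hA i U hU)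
      (by rw [← Set.preimage_iInter, ← Set.preimage_inter, h, Set.preimage_empty])
    refine ⟨J, Set.eq_empty_of_forall_notMem fun x hx => ?_⟩
    exact Set.eq_empty_iff_forall_notMem.mp hJ ⟨x, hx.1⟩
      ⟨hx.2.1, Set.mem_iInter₂.mpr fun i hi => Set.mem_iInter₂.mp hx.2.2 i hi⟩
  let U : X → X.Opens := fun x => (X.affineCover.f (X.affineCover.idx x)).opensRange
  obtain ⟨s, hs⟩ := CompactSpace.elim_nhds_subcover (fun x : X => (U x : Set X))
    (fun x => (U x).2.mem_nhds (X.affineCover.covers x))
  choose J hJ using fun x => key (U x) (isAffineOpen_opensRange _)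
  refine ⟨s.biUnion J, Set.eq_empty_of_forall_notMem fun z hz => ?_⟩
  obtain ⟨x, hx, hzx⟩ := Set.mem_iUnion₂.mp (hs.ge (Set.mem_univ z))
  exact Set.eq_empty_iff_forall_notMem.mp (hJ x) z ⟨hzx, hz.1, Set.mem_iInter₂.mpr
    fun i hi => Set.mem_iInter₂.mp hz.2 i (Finset.mem_biUnion.mpr ⟨x, hx, hi⟩)⟩

theorem isClosed_image_cons_of_affine (g : X ⟶ Y) [IsAffine X] [IsAffine Y] {Z : Set X}
    (hZ : IsClosed[constructibleTopology X] Z) :
    IsClosed[constructibleTopology Y] (⇑g '' Z) := by
  have h1 : Continuous (fun w : WithConstructibleTopology X =>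
      WithTopology.toTopology (constructibleTopology Y) (g w.ofTopology)) :=
    @Continuous.comp _ _ _ _ (constructibleTopology Y) _ _ _
      (WithTopology.continuous_toTopology _)
      (@Continuous.comp _ _ _ _ (constructibleTopology X) (constructibleTopology Y) _ _
        (continuous_cons_of_affine g) (WithTopology.continuous_ofTopology _))
  have := isClosed_cons_preimage ((isClosed_cons_iff.mp hZ).isCompact.image h1).isClosed
  convert this using 1
  ext z
  constructor
  · rintro ⟨w, hw, rfl⟩
    exact ⟨WithTopology.toTopology _ w, hw, rfl⟩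
  · rintro ⟨w, hw, hwz⟩
    exact ⟨w.ofTopology, hw, WithTopology.toTopology_injective _ hwz⟩

/-- Images under quasi-compact morphisms. -/
theorem isPC_image (f : X ⟶ Y) [QuasiCompact f] {Z : Set X} (hZ : IsPC Z) :
    IsPC (⇑f '' Z) := by
  intro U hU
  have : IsAffine (U : Scheme.{u}) := hU
  have hcU : IsCompact ((f ⁻¹ᵁ U : X.Opens) : Set X) :=
    QuasiCompact.isCompact_preimage _ U.2 hU.isCompact
  choose W hW hxW hWle' using fun x : ↥(f ⁻¹ᵁ U) =>
    exists_isAffineOpen_mem_and_subset (x := x.1) (U := f ⁻¹ᵁ U) x.2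
  have hWle : ∀ x, W x ≤ f ⁻¹ᵁ U := hWle'
  obtain ⟨t, ht⟩ := hcU.elim_finite_subcover (fun x => (W x : Set X)) (fun x => (W x).2)
    (fun x hx => Set.mem_iUnion.mpr ⟨⟨x, hx⟩, hxW ⟨x, hx⟩⟩)
  have heq : (⇑U.ι ⁻¹' (⇑f '' Z) : Set (U : Scheme.{u})) =
      ⋃ x ∈ t, ⇑(f.resLE U (W x) (hWle x)) '' (⇑(W x).ι ⁻¹' Z) := by
    ext y
    simp only [Set.mem_preimage, Set.mem_iUnion, Set.mem_image]
    have hval : ∀ x (w : (W x : Scheme.{u})),
        U.ι (f.resLE U (W x) (hWle x) w) = f ((W x).ι w) := fun x w =>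
      congr($(Scheme.Hom.resLE_comp_ι f (hWle x)) w)
    constructor
    · rintro ⟨z, hz, hzy⟩
      obtain ⟨x, hxt, hzx⟩ := Set.mem_iUnion₂.mp (ht (show f z ∈ U from hzy ▸ y.2))
      refine ⟨x, hxt, ⟨z, hzx⟩, hz, U.ι.isOpenEmbedding.injective ?_⟩
      exact (hval x ⟨z, hzx⟩).trans hzy
    · rintro ⟨x, -, w, hw, rfl⟩
      exact ⟨_, hw, (hval x w).symm⟩
  rw [heq]
  refine @isClosed_biUnion_finset _ _ (constructibleTopology (U : Scheme.{u})) _ _ fun x _ => ?_
  have : IsAffine (W x : Scheme.{u}) := hW x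
  exact isClosed_image_cons_of_affine _ (hZ _ (hW x))

/-- Images under morphisms locally of finite presentation. -/
theorem isIndConstructible_image (f : X ⟶ Y) [LocallyOfFinitePresentation f] {E : Set X}
    (hE : ProCons.IsIndConstructible E) : ProCons.IsIndConstructible (⇑f '' E) := by
  intro y
  obtain ⟨U, hU, hyU, -⟩ := exists_isAffineOpen_mem_and_subset (x := y) (U := ⊤) trivial
  have : IsAffine (U : Scheme.{u}) := hU
  refine ⟨U, U.2, hyU, {T : Set ↥(U : Set Y) | IsLocallyConstructible T ∧
    T ⊆ Subtype.val ⁻¹' (⇑f '' E)}, fun T h => h.1,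
    Set.Subset.antisymm (fun a ha => ?_) fun a ⟨T, hT, haT⟩ => hT.2 haT⟩
  obtain ⟨w, hwE, hwa⟩ := ha
  obtain ⟨W, hW, hwW, hWU⟩ :=
    exists_isAffineOpen_mem_and_subset (x := w) (U := f ⁻¹ᵁ U) (show f w ∈ U from hwa ▸ a.2)
  have : IsAffine (W : Scheme.{u}) := hW
  obtain ⟨C, hC, hwC, hCE⟩ := exists_constructible_subset (X := (W : Scheme.{u}))
    (s := ⇑W.ι ⁻¹' E) (isClosed_compl_cons.mp (isIndConstructible_iff_isPC.mp hE W hW))
    (x := ⟨w, hwW⟩) hwE
  have hWU' : W ≤ f ⁻¹ᵁ U := hWU
  let g := f.resLE U W hWU'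
  have : LocallyOfFinitePresentation g :=
    inferInstanceAs (LocallyOfFinitePresentation (f.resLE U W hWU'))
  have hval : ∀ v : (W : Scheme.{u}), U.ι (g v) = f (W.ι v) := fun v =>
    congr($(Scheme.Hom.resLE_comp_ι f hWU) v)
  refine ⟨⇑g '' C, ⟨(g.isConstructible_image hC).isLocallyConstructible, ?_⟩,
    ⟨w, hwW⟩, hwC, U.ι.isOpenEmbedding.injective ?_⟩
  · rintro _ ⟨v, hv, rfl⟩
    exact ⟨_, hCE hv, (hval v).symm⟩
  · exact (hval ⟨w, hwW⟩).trans hwa

theorem mem_interior_iff {E : Set X} (hE : ProCons.IsIndConstructible E) (x : X) :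
    x ∈ interior E ↔ ∀ x' : X, x' ⤳ x → x' ∈ E := by
  refine ⟨fun h x' hx' => interior_subset (hx'.mem_open isOpen_interior h), fun h => ?_⟩
  by_contra hx
  obtain ⟨z, hz, hzx⟩ := Subtrusive.ProConstructible.exists_generization_of_isProConstructible
    (isProConstructible_compl_iff.mpr hE) (y := x) (by rwa [closure_compl])
  exact hz (h z hzx)

/-- An ind-constructible set contains a neighbourhood of each of its points in the closure of this
point. -/
theorem exists_isOpen_inter_closure_subset {E : Set X} (hE : ProCons.IsIndConstructible E) {x : X}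
    (hx : x ∈ E) : ∃ O, IsOpen O ∧ x ∈ O ∧ O ∩ closure {x} ⊆ E := by
  have hT : IsPC (closure {x} ∩ Eᶜ) :=
    (IsPC.of_isClosed isClosed_closure).inter (isIndConstructible_iff_isPC.mp hE)
  have hxT : x ∉ closure (closure {x} ∩ Eᶜ) := fun h => by
    obtain ⟨z, hz, hzx⟩ := Subtrusive.ProConstructible.exists_generization_of_isProConstructible
      (isProConstructible_iff_isPC.mpr hT) h
    exact hz.2 ((hzx.antisymm (specializes_iff_mem_closure.mpr hz.1)).eq ▸ hx)
  exact ⟨_, isClosed_closure.isOpen_compl, hxT,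
    fun z hz => by_contra fun hzE => hz.1 (subset_closure ⟨hz.2, hzE⟩)⟩

/-! ### Quasi-separated schemes and the constructible topology -/

theorem continuous_cons_opensι [QuasiSeparatedSpace X] {U : X.Opens} (hU : IsAffineOpen U) :
    Continuous[constructibleTopology (U : Scheme.{u}), constructibleTopology X] ⇑U.ι := by
  refine continuous_cons U.ι.continuous fun s ho hc => ?_
  rw [U.ι.isOpenEmbedding.isInducing.isCompact_iff, Set.image_preimage_eq_inter_range,
    Scheme.Opens.range_ι]
  exact hc.inter_of_isOpen hU.isCompact ho U.2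

theorem isOpen_cons_iff [QuasiSeparatedSpace X] {s : Set X} :
    IsOpen[constructibleTopology X] s ↔
      ∀ U : X.Opens, IsAffineOpen U →
        IsOpen[constructibleTopology (U : Scheme.{u})] (⇑U.ι ⁻¹' s) := by
  refine ⟨fun h U hU => @IsOpen.preimage _ _ (constructibleTopology (U : Scheme.{u}))
    (constructibleTopology X) _ (continuous_cons_opensι hU) _ h, fun h => ?_⟩
  have heq : s = ⋃ U : X.affineOpens, ⇑U.1.ι '' (⇑U.1.ι ⁻¹' s) := by
    refine Set.Subset.antisymm (fun x hx => ?_)
      (Set.iUnion_subset fun U => Set.image_preimage_subset _ _)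
    obtain ⟨U, hU, hxU, -⟩ := exists_isAffineOpen_mem_and_subset (x := x) (U := ⊤) trivial
    exact Set.mem_iUnion.mpr ⟨⟨U, hU⟩, ⟨x, hxU⟩, hx, rfl⟩
  rw [heq]
  refine @isOpen_iUnion _ _ (constructibleTopology X) _ fun U => ?_
  have : CompactSpace (U.1 : Scheme.{u}) := compactSpace_of_isAffineOpen U.2
  exact isOpen_cons_image U.1.ι.isOpenEmbedding (h U.1 U.2)

theorem isClosed_cons_iff_isPC [QuasiSeparatedSpace X] {s : Set X} :
    IsClosed[constructibleTopology X] s ↔ IsPC s := by
  rw [← isOpen_compl_cons, isOpen_cons_iff]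
  simp only [Set.preimage_compl, isOpen_compl_cons]
  rfl

/-- A quasi-compact open subset of a quasi-separated scheme is compact in the constructible
topology. -/
theorem isCompact_cons [QuasiSeparatedSpace X] {V : Set X} (ho : IsOpen V) (hc : IsCompact V) :
    @IsCompact X (constructibleTopology X) V := by
  choose W hW hxW hWle using fun x : V =>
    exists_isAffineOpen_mem_and_subset (x := x.1) (U := (⟨V, ho⟩ : X.Opens)) x.2
  obtain ⟨t, ht⟩ := hc.elim_finite_subcover (fun x => (W x : Set X)) (fun x => (W x).2)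
    (fun x hx => Set.mem_iUnion.mpr ⟨⟨x, hx⟩, hxW ⟨x, hx⟩⟩)
  have heq : V = ⋃ x ∈ t, Set.range ⇑(W x).ι := by
    refine Set.Subset.antisymm ?_ (Set.iUnion₂_subset fun x _ => ?_)
    · simpa only [Scheme.Opens.range_ι] using ht
    · rw [Scheme.Opens.range_ι]; exact hWle x
  rw [heq]
  refine @Finset.isCompact_biUnion X _ (constructibleTopology X) _ _ fun x _ => ?_
  have : IsAffine (W x : Scheme.{u}) := hW x
  exact @isCompact_range _ _ (constructibleTopology _) (constructibleTopology X) compactSpace_cons _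
    (continuous_cons_opensι (hW x))

end Groth.Agent.Lib.ProCons45.Basic
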