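import Mathlib.AlgebraicGeometry.Morphisms.QuasiSeparated
import Mathlib.AlgebraicGeometry.Limits

/-!
# Quasi-compactness and quasi-separatedness of morphisms out of a coproduct
-/

universe u

open CategoryTheory Limits AlgebraicGeometry Topology

namespace Groth.Agent.Lib.ProCons45.Coprod

variable {X' X'' Y : Scheme.{u}} (f' : X' ⟶ Y) (f'' : X'' ⟶ Y)

theorem isClosed_range_inl : IsClosed (Set.range (coprod.inl : X' ⟶ X' ⨿ X'')) := by
  rw [(isCompl_range_inl_inr X' X'').eq_compl]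
  exact (coprod.inr : X'' ⟶ X' ⨿ X'').isOpenEmbedding.isOpen_range.isClosed_compl

theorem isClosed_range_inr : IsClosed (Set.range (coprod.inr : X'' ⟶ X' ⨿ X'')) := by
  rw [(isCompl_range_inl_inr X' X'').symm.eq_compl]
  exact (coprod.inl : X' ⟶ X' ⨿ X'').isOpenEmbedding.isOpen_range.isClosed_compl

theorem preimage_desc (s : Set Y) : (coprod.desc f' f'') ⁻¹' s =
    (coprod.inl : X' ⟶ X' ⨿ X'') '' (f' ⁻¹' s) ∪ (coprod.inr : X'' ⟶ X' ⨿ X'') '' (f'' ⁻¹' s) := by
  have hl : ∀ x, coprod.desc f' f'' ((coprod.inl : X' ⟶ X' ⨿ X'') x) = f' x := fun x => by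
    rw [← Scheme.Hom.comp_apply, coprod.inl_desc]
  have hr : ∀ x, coprod.desc f' f'' ((coprod.inr : X'' ⟶ X' ⨿ X'') x) = f'' x := fun x => by
    rw [← Scheme.Hom.comp_apply, coprod.inr_desc]
  ext z
  constructor
  · intro hz
    rcases (isCompl_range_inl_inr X' X'').sup_eq_top.ge (Set.mem_univ z) with ⟨x, rfl⟩ | ⟨x, rfl⟩
    · exact Or.inl ⟨x, by rwa [Set.mem_preimage, hl] at hz, rfl⟩
    · exact Or.inr ⟨x, by rwa [Set.mem_preimage, hr] at hz, rfl⟩
  · rintro (⟨x, hx, rfl⟩ | ⟨x, hx, rfl⟩)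
    · rwa [Set.mem_preimage, hl]
    · rwa [Set.mem_preimage, hr]

theorem quasiCompact_desc_iff :
    QuasiCompact (coprod.desc f' f'') ↔ QuasiCompact f' ∧ QuasiCompact f'' := by
  have hl : IsClosedEmbedding (coprod.inl : X' ⟶ X' ⨿ X'') :=
    ⟨(coprod.inl : X' ⟶ X' ⨿ X'').isOpenEmbedding.isEmbedding, isClosed_range_inl⟩
  have hr : IsClosedEmbedding (coprod.inr : X'' ⟶ X' ⨿ X'') :=
    ⟨(coprod.inr : X'' ⟶ X' ⨿ X'').isOpenEmbedding.isEmbedding, isClosed_range_inr⟩
  constructor
  · intro h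
    constructor <;> refine ⟨fun U hU hc => ?_⟩
    · have := hl.isCompact_preimage (QuasiCompact.isCompact_preimage (f := coprod.desc f' f'') U hU hc)
      rwa [← Set.preimage_comp, ← TopCat.coe_comp, ← Scheme.Hom.comp_base, coprod.inl_desc] at this
    · have := hr.isCompact_preimage (QuasiCompact.isCompact_preimage (f := coprod.desc f' f'') U hU hc)
      rwa [← Set.preimage_comp, ← TopCat.coe_comp, ← Scheme.Hom.comp_base, coprod.inr_desc] at this
  · rintro ⟨h1, h2⟩
    refine ⟨fun U hU hc => ?_⟩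
    rw [preimage_desc]
    exact ((QuasiCompact.isCompact_preimage U hU hc).image hl.continuous).union
      ((QuasiCompact.isCompact_preimage U hU hc).image hr.continuous)

set_option backward.isDefEq.respectTransparency.types false in
theorem quasiSeparated_iff_forall {Z W : Scheme.{u}} (f : Z ⟶ W) :
    QuasiSeparated f ↔ ∀ U : W.affineOpens, IsQuasiSeparated (f ⁻¹ᵁ U.1 : Set Z) := by
  refine ⟨fun _ U => f.isQuasiSeparated_preimage U.2.isQuasiSeparated, fun h => ?_⟩
  rw [HasAffineProperty.eq_targetAffineLocally (P := @QuasiSeparated.{u})]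
  exact fun U => (isQuasiSeparated_iff_quasiSeparatedSpace _ (f ⁻¹ᵁ U.1).2).mp (h U)

theorem quasiSeparated_desc_iff :
    QuasiSeparated (coprod.desc f' f'') ↔ QuasiSeparated f' ∧ QuasiSeparated f'' := by
  constructor
  · intro h
    exact ⟨coprod.inl_desc f' f'' ▸ (inferInstance : QuasiSeparated (coprod.inl ≫ coprod.desc f' f'')),
      coprod.inr_desc f' f'' ▸ (inferInstance : QuasiSeparated (coprod.inr ≫ coprod.desc f' f''))⟩
  · rintro ⟨h1, h2⟩
    rw [quasiSeparated_iff_forall] at h1 h2 ⊢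
    intro U A B hAs hAo hAc hBs hBo hBc
    have key : A ∩ B = ((A ∩ Set.range (coprod.inl : X' ⟶ X' ⨿ X'')) ∩ B) ∪
        ((A ∩ Set.range (coprod.inr : X'' ⟶ X' ⨿ X'')) ∩ B) := by
      rw [← Set.union_inter_distrib_right, ← Set.inter_union_distrib_left]
      rw [show Set.range (coprod.inl : X' ⟶ X' ⨿ X'') ∪ Set.range (coprod.inr : X'' ⟶ X' ⨿ X'') =
        Set.univ from (isCompl_range_inl_inr X' X'').sup_eq_top, Set.inter_univ]
    rw [key]
    have aux : ∀ {W : Scheme.{u}} (i : W ⟶ X' ⨿ X'') [IsOpenImmersion i],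
        IsClosed (Set.range i) → IsQuasiSeparated (i ⁻¹' ((coprod.desc f' f'') ⁻¹' (U.1 : Set Y))) →
        IsCompact ((A ∩ Set.range i) ∩ B) := by
      intro W i _ hcl hq
      have he : IsClosedEmbedding i := ⟨i.isOpenEmbedding.isEmbedding, hcl⟩
      have h := hq (i ⁻¹' A) (i ⁻¹' B) (Set.preimage_mono hAs) (hAo.preimage i.continuous)
        (he.isCompact_preimage hAc) (Set.preimage_mono hBs) (hBo.preimage i.continuous)
        (he.isCompact_preimage hBc)
      have := h.image i.continuous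
      rwa [← Set.preimage_inter, Set.image_preimage_eq_inter_range, Set.inter_right_comm] at this
    refine (aux _ isClosed_range_inl ?_).union (aux _ isClosed_range_inr ?_)
    · rw [← Set.preimage_comp, ← TopCat.coe_comp, ← Scheme.Hom.comp_base, coprod.inl_desc]
      exact h1 U
    · rw [← Set.preimage_comp, ← TopCat.coe_comp, ← Scheme.Hom.comp_base, coprod.inr_desc]
      exact h2 U

end Groth.Agent.Lib.ProCons45.Coprod
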