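import Mathlib.AlgebraicGeometry.Morphisms.QuasiSeparated
import Mathlib.AlgebraicGeometry.Morphisms.UnderlyingMap
import Mathlib.AlgebraicGeometry.PullbackCarrier
import Mathlib.CategoryTheory.MorphismProperty.Descent

/-!
# Descent of quasi-compactness and dominance along surjective morphisms
-/

universe u

open CategoryTheory Limits AlgebraicGeometry

namespace Groth.Agent.Lib.ProCons45.Descend

variable {X Y Y' : Scheme.{u}} (f : X ⟶ Y) (g : Y' ⟶ Y)

theorem quasiCompact_of_snd [Surjective g] [QuasiCompact g] [QuasiCompact (pullback.snd f g)] :
    QuasiCompact f := by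
  refine ⟨fun U hU hc => ?_⟩
  have h := (QuasiCompact.isCompact_preimage (f := pullback.snd f g ≫ g) U hU hc).image
    (pullback.fst f g).continuous
  convert h using 1
  rw [← pullback.condition, Scheme.Hom.comp_base, TopCat.coe_comp, Set.preimage_comp,
    Set.image_preimage_eq]
  exact (pullback.fst f g).surjective

theorem isDominant_of_snd [Surjective g] (h : IsDominant (pullback.snd f g)) : IsDominant f := by
  refine ⟨?_⟩
  have h1 : DenseRange (⇑g ∘ ⇑(pullback.snd f g)) :=
    g.surjective.denseRange.comp h.denseRange g.continuous
  refine Dense.mono ?_ h1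
  rintro _ ⟨z, rfl⟩
  exact ⟨pullback.fst f g z, by
    simp only [Function.comp_apply, ← Scheme.Hom.comp_apply, pullback.condition]⟩

set_option backward.isDefEq.respectTransparency.types false in
instance : MorphismProperty.DescendsAlong (@QuasiCompact : MorphismProperty Scheme.{u})
    (@Surjective ⊓ @QuasiCompact) := by
  have : MorphismProperty.RespectsIso (@QuasiCompact : MorphismProperty Scheme.{u}) :=
    inferInstanceAs (MorphismProperty.RespectsIso @QuasiCompact.{u})
  apply MorphismProperty.DescendsAlong.mk'
  intro A B C p q _ hp h
  have := hp.1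
  have := hp.2
  have : QuasiCompact (pullback.fst p q) := h
  have : QuasiCompact (pullback.snd q p) := by
    rw [← pullbackSymmetry_hom_comp_fst]; infer_instance
  exact quasiCompact_of_snd q p

end Groth.Agent.Lib.ProCons45.Descend
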