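import Groth.Agent.Lib.ProCons45.Basic
import Mathlib.RingTheory.Localization.Away.AdjoinRoot

/-!
# Constructible sets as images of affine schemes of finite presentation
-/

universe u

open CategoryTheory Limits AlgebraicGeometry TopologicalSpace Topology PrimeSpectrum

namespace Groth.Agent.Lib.ProCons45.FpRange

theorem exists_fp_range_comap {R : Type u} [CommRing R] (D : BasicConstructibleSetData R) :
    ∃ (S : Type u) (_ : CommRing S) (φ : R →+* S), φ.FinitePresentation ∧
      Set.range (PrimeSpectrum.comap φ) = D.toSet := by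
  let I := Ideal.span (Set.range D.g)
  let f := Ideal.Quotient.mk I D.f
  refine ⟨Localization.Away f, inferInstance,
    (algebraMap (R ⧸ I) (Localization.Away f)).comp (Ideal.Quotient.mk I), ?_, ?_⟩
  · refine RingHom.FinitePresentation.comp ?_ (RingHom.FinitePresentation.of_surjective _
      Ideal.Quotient.mk_surjective (by rw [Ideal.mk_ker]; exact ⟨(Set.finite_range D.g).toFinset, by simp [I]⟩))
    exact RingHom.finitePresentation_algebraMap.mpr inferInstance
  · rw [PrimeSpectrum.comap_comp, Set.range_comp,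
      localization_away_comap_range _ f, ← comap_basicOpen, TopologicalSpace.Opens.coe_comap,
      ContinuousMap.coe_mk, Set.image_preimage_eq_inter_range,
      range_comap_of_surjective _ _ Ideal.Quotient.mk_surjective, BasicConstructibleSetData.toSet,
      Set.sdiff_eq_compl_inter, basicOpen_eq_zeroLocus_compl, Ideal.mk_ker, zeroLocus_span]

set_option backward.isDefEq.respectTransparency.types false in
theorem exists_fp_range_eq {X : Scheme.{u}} [CompactSpace X] [QuasiSeparatedSpace X] {Z : Set X}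
    (hZ : IsConstructible Z) :
    ∃ (X' : Scheme.{u}) (f : X' ⟶ X), IsAffine X' ∧ LocallyOfFinitePresentation f ∧ QuasiCompact f ∧
      QuasiSeparated f ∧ Set.range ⇑f = Z := by
  let U : X → X.Opens := fun x => (X.affineCover.f (X.affineCover.idx x)).opensRange
  have hU : ∀ x, IsAffineOpen (U x) := fun x => isAffineOpen_opensRange _
  obtain ⟨t, ht⟩ := CompactSpace.elim_nhds_subcover (fun x : X => (U x : Set X))
    (fun x => (U x).2.mem_nhds (X.affineCover.covers x))
  have key : ∀ x, ∃ S : ConstructibleSetData Γ(X, U x), S.toSet = (hU x).fromSpec ⁻¹' Z := fun x =>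
    exists_constructibleSetData_iff.mpr
      ((hZ.isLocallyConstructible.preimage_of_isOpenEmbedding (hU x).fromSpec.isOpenEmbedding).isConstructible)
  choose S hS using key
  choose B _ φ hφ hrange using fun i : Σ x : (t : Set X), {D // D ∈ S x.1} => exists_fp_range_comap i.2.1
  let Y := fun i : Σ x : (t : Set X), {D // D ∈ S x.1} => Spec (.of (B i))
  let g := fun i : Σ x : (t : Set X), {D // D ∈ S x.1} =>
    Spec.map (CommRingCat.ofHom (φ i)) ≫ (hU i.1).fromSpec
  have hg : ∀ i, LocallyOfFinitePresentation (g i) := fun i => by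
    have : LocallyOfFinitePresentation (Spec.map (CommRingCat.ofHom (φ i))) :=
      LocallyOfFinitePresentation.SpecMap_iff _ |>.mpr (hφ i)
    exact locallyOfFinitePresentation_comp _ _
  refine ⟨∐ Y, Sigma.desc g, inferInstance, IsZariskiLocalAtSource.sigmaDesc hg,
    quasiCompact_of_compactSpace _, QuasiSeparated.of_quasiSeparatedSpace _,
    Set.Subset.antisymm ?_ ?_⟩
  · rintro _ ⟨z, rfl⟩
    obtain ⟨⟨i, w⟩, rfl⟩ := (sigmaMk Y).surjective z
    rw [sigmaMk_mk, ← Scheme.Hom.comp_apply, Sigma.ι_desc, Scheme.Hom.comp_apply]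
    exact (hS i.1).le (Set.mem_biUnion i.2.2 ((hrange i).le ⟨w, rfl⟩))
  · intro z hz
    obtain ⟨x, hx, hzx⟩ := Set.mem_iUnion₂.mp (ht.ge (Set.mem_univ z))
    obtain ⟨q, hq⟩ : z ∈ Set.range (hU x).fromSpec := by rw [(hU x).range_fromSpec]; exact hzx
    obtain ⟨D, hD, hqD⟩ := Set.mem_iUnion₂.mp ((hS x).ge (show q ∈ (hU x).fromSpec ⁻¹' Z by rw [Set.mem_preimage, hq]; exact hz))
    obtain ⟨w, hw⟩ := (hrange ⟨⟨x, hx⟩, ⟨D, hD⟩⟩).ge hqD
    refine ⟨Sigma.ι Y ⟨⟨x, hx⟩, ⟨D, hD⟩⟩ w, ?_⟩
    exact (Scheme.Hom.comp_apply ..).symm.trans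
      ((congr($(Sigma.ι_desc g ⟨⟨x, hx⟩, ⟨D, hD⟩⟩) w)).trans ((congrArg _ hw).trans hq))

end Groth.Agent.Lib.ProCons45.FpRange
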