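import Mathlib.RingTheory.Jacobson.Ring
import Mathlib.RingTheory.Localization.Integral
import Mathlib.RingTheory.Algebraic.Integral
import Mathlib.RingTheory.Spectrum.Prime.Topology
import Mathlib.RingTheory.TensorProduct.Finite
import Mathlib.AlgebraicGeometry.Morphisms.FiniteType
import Mathlib.AlgebraicGeometry.Properties

/-!
# The image of a dominant morphism of finite type contains a non-empty open subset
-/

universe u

open TensorProduct

namespace Groth.Agent.Lib.ProCons45.GenericRange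

theorem exists_ne_zero_forall_mem_range {A B : Type u} [CommRing A] [IsDomain A] [CommRing B]
    [IsDomain B] [Algebra A B] [Algebra.FiniteType A B]
    (hinj : Function.Injective (algebraMap A B)) :
    ∃ a : A, a ≠ 0 ∧ ∀ p : PrimeSpectrum A, a ∉ p.asIdeal →
      p ∈ Set.range (PrimeSpectrum.comap (algebraMap A B)) := by
  classical
  let K := FractionRing A
  let E := FractionRing B
  have hg : Function.Injective (IsScalarTower.toAlgHom A B E) :=
    (IsFractionRing.injective B E)
  let ι : K →ₐ[A] E := IsFractionRing.liftAlgHom (g := (IsScalarTower.toAlgHom A B E).comp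
    (Algebra.ofId A B)) (fun x y h => hinj (hg h))
  have : Nontrivial (K ⊗[A] B) :=
    (Algebra.TensorProduct.lift ι (IsScalarTower.toAlgHom A B E)
      (fun _ _ => Commute.all _ _)).toRingHom.domain_nontrivial
  obtain ⟨m, hm⟩ := Ideal.exists_maximal (K ⊗[A] B)
  let L := (K ⊗[A] B) ⧸ m
  let _ : Field L := Ideal.Quotient.field m
  have : Module.Finite K L := finite_of_finite_type_of_isJacobsonRing K L
  have : Algebra.IsAlgebraic K L := Algebra.IsAlgebraic.of_finite K L
  have halg : Algebra.IsAlgebraic A L := (IsFractionRing.comap_isAlgebraic_iff (K := K)).mpr ‹_›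
  have hAL : Function.Injective (algebraMap A L) := by
    rw [IsScalarTower.algebraMap_eq A K L]
    exact (algebraMap K L).injective.comp (IsFractionRing.injective A K)
  let φ : B →ₐ[A] L := (Ideal.Quotient.mkₐ A m).comp Algebra.TensorProduct.includeRight
  obtain ⟨s, hs⟩ := (Algebra.FiniteType.out : (⊤ : Subalgebra A B).FG)
  obtain ⟨a, ha0, ha⟩ := Algebra.IsAlgebraic.exists_integral_multiples A (s.image φ)
  have key : ∀ b : B, ∃ N : ℕ, IsIntegral A (a ^ N • φ b) := by
    intro b
    have hb : b ∈ Algebra.adjoin A (s : Set B) := hs ▸ Algebra.mem_top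
    induction hb using Algebra.adjoin_induction with
    | mem x hx => exact ⟨1, by simpa using ha _ (Finset.mem_image_of_mem φ hx)⟩
    | algebraMap r => exact ⟨0, by simpa using isIntegral_algebraMap⟩
    | add x y _ _ ihx ihy =>
      obtain ⟨N, hN⟩ := ihx
      obtain ⟨M, hM⟩ := ihy
      refine ⟨N + M, ?_⟩
      rw [map_add, smul_add]
      refine IsIntegral.add ?_ ?_
      · rw [pow_add, mul_comm, mul_smul]; exact hN.smul _
      · rw [pow_add, mul_smul]; exact hM.smul _
    | mul x y _ _ ihx ihy =>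
      obtain ⟨N, hN⟩ := ihx
      obtain ⟨M, hM⟩ := ihy
      refine ⟨N + M, ?_⟩
      rw [map_mul, pow_add, ← smul_mul_smul_comm]
      exact hN.mul hM
  refine ⟨a, ha0, fun p hap => ?_⟩
  let C := integralClosure A L
  have hker : RingHom.ker (algebraMap A C) ≤ p.asIdeal := by
    intro x hx
    have : algebraMap A L x = 0 := congrArg Subtype.val (RingHom.mem_ker.mp hx)
    rw [hAL (this.trans (map_zero _).symm)]
    exact zero_mem _
  obtain ⟨P, hP, hPp⟩ := Ideal.exists_ideal_over_prime_of_isIntegral_of_isDomain (S := C) p.asIdeal hker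
  have hr : ∀ r : A, algebraMap A C r ∈ P ↔ r ∈ p.asIdeal := fun r => by
    rw [← Ideal.mem_comap, hPp]
  have hlift : ∀ {N : ℕ} {b : B} (c : C), (c : L) = a ^ N • φ b → c ∈ P →
      ∀ {M : ℕ} (d : C), (d : L) = a ^ M • φ b → d ∈ P := by
    intro N b c hc hcP M d hd
    have h : a ^ N • d = a ^ M • c := Subtype.ext (by
      show a ^ N • (d : L) = a ^ M • (c : L)
      rw [hd, hc, smul_smul, smul_smul, mul_comm])
    have h2 : a ^ N • d ∈ P := by
      rw [h, Algebra.smul_def]; exact P.mul_mem_left _ hcP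
    rw [Algebra.smul_def, map_pow] at h2
    refine (hP.mem_or_mem h2).resolve_left fun h3 => hap ((hr a).mp (hP.mem_of_pow_mem N h3))
  let Q : Ideal B :=
    { carrier := {b | ∃ (N : ℕ) (c : C), (c : L) = a ^ N • φ b ∧ c ∈ P}
      zero_mem' := ⟨0, 0, by simp, P.zero_mem⟩
      add_mem' := by
        rintro x y ⟨N, c, hc, hcP⟩ ⟨M, d, hd, hdP⟩
        refine ⟨N + M, a ^ M • c + a ^ N • d, ?_, ?_⟩
        · show a ^ M • (c : L) + a ^ N • (d : L) = _
          rw [hc, hd, map_add, smul_add, smul_smul, smul_smul, ← pow_add, ← pow_add, add_comm M N]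
        · simp only [Algebra.smul_def]
          exact P.add_mem (P.mul_mem_left _ hcP) (P.mul_mem_left _ hdP)
      smul_mem' := by
        rintro r x ⟨N, c, hc, hcP⟩
        obtain ⟨M, hM⟩ := key r
        refine ⟨M + N, ⟨_, hM⟩ * c, ?_, P.mul_mem_left _ hcP⟩
        show a ^ M • φ r * (c : L) = _
        rw [hc, smul_eq_mul, map_mul, pow_add, smul_mul_smul_comm] }
  have hQA : ∀ r : A, algebraMap A B r ∈ Q ↔ r ∈ p.asIdeal := by
    intro r
    refine ⟨fun h => ?_, fun h => ⟨0, algebraMap A C r, ?_, (hr r).mpr h⟩⟩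
    · obtain ⟨N, c, hc, hcP⟩ := h
      have he : ((algebraMap A C r : C) : L) = a ^ 0 • φ (algebraMap A B r) := by
        show algebraMap A L r = _
        simp
      exact (hr r).mp (hlift c hc hcP (algebraMap A C r) he)
    · show algebraMap A L r = a ^ 0 • φ (algebraMap A B r)
      simp
  have hQ : Q.IsPrime := by
    refine ⟨fun h => p.2.ne_top ((Ideal.eq_top_iff_one _).mpr
      ((hQA 1).mp (h ▸ Submodule.mem_top))), ?_⟩
    rintro x y ⟨N, c, hc, hcP⟩
    obtain ⟨i, hi⟩ := key x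
    obtain ⟨j, hj⟩ := key y
    have h := hlift c hc hcP (M := i + j) (⟨_, hi⟩ * ⟨_, hj⟩) (by
      show a ^ i • φ x * (a ^ j • φ y) = _
      rw [map_mul, pow_add, smul_mul_smul_comm])
    exact (hP.mem_or_mem h).imp (fun h => ⟨i, _, rfl, h⟩) fun h => ⟨j, _, rfl, h⟩
  exact ⟨⟨Q, hQ⟩, PrimeSpectrum.ext (Ideal.ext hQA)⟩

open AlgebraicGeometry CategoryTheory

/-- The ring-level statement, transported to primes containing a given one. -/
theorem exists_forall_mem_range {A B : Type u} [CommRing A] [CommRing B] (f : A →+* B)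
    (hf : f.FiniteType) (q : PrimeSpectrum B) :
    ∃ a : A, a ∉ (PrimeSpectrum.comap f q).asIdeal ∧ ∀ p : PrimeSpectrum A,
      (PrimeSpectrum.comap f q).asIdeal ≤ p.asIdeal → a ∉ p.asIdeal →
        p ∈ Set.range (PrimeSpectrum.comap f) := by
  let p₀ := Ideal.comap f q.asIdeal
  let f' : A ⧸ p₀ →+* B ⧸ q.asIdeal := Ideal.quotientMap q.asIdeal f le_rfl
  let := f'.toAlgebra
  have hf' : f'.FiniteType := by
    refine RingHom.FiniteType.of_comp_finiteType (f := Ideal.Quotient.mk p₀) ?_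
    show ((Ideal.quotientMap q.asIdeal f _).comp (Ideal.Quotient.mk p₀)).FiniteType
    rw [Ideal.quotientMap_comp_mk]
    exact (RingHom.FiniteType.of_surjective _ Ideal.Quotient.mk_surjective).comp hf
  have : Algebra.FiniteType (A ⧸ p₀) (B ⧸ q.asIdeal) := hf'
  obtain ⟨a', ha', h⟩ := exists_ne_zero_forall_mem_range (A := A ⧸ p₀) (B := B ⧸ q.asIdeal)
    (Ideal.quotientMap_injective' (H := le_rfl) le_rfl)
  obtain ⟨a, rfl⟩ := Ideal.Quotient.mk_surjective a'
  refine ⟨a, fun ha => ha' (Ideal.Quotient.eq_zero_iff_mem.mpr ha), fun p hp hap => ?_⟩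
  obtain ⟨p', rfl⟩ : p ∈ Set.range (PrimeSpectrum.comap (Ideal.Quotient.mk p₀)) := by
    rw [range_comap_of_surjective _ _ Ideal.Quotient.mk_surjective, Ideal.mk_ker]
    exact hp
  obtain ⟨Q, hQ⟩ := h p' hap
  refine ⟨PrimeSpectrum.comap (Ideal.Quotient.mk q.asIdeal) Q, ?_⟩
  rw [← hQ, ← PrimeSpectrum.comap_comp_apply, ← PrimeSpectrum.comap_comp_apply]
  rfl

theorem genericPoint_mem_interior {X Y : Scheme.{u}} (f : X ⟶ Y) [LocallyOfFiniteType f]
    [IrreducibleSpace Y] (h : genericPoint Y ∈ Set.range ⇑f) :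
    genericPoint Y ∈ interior (Set.range ⇑f) := by
  obtain ⟨x, hx⟩ := h
  obtain ⟨V, hV, hyV, -⟩ :=
    exists_isAffineOpen_mem_and_subset (x := genericPoint Y) (U := ⊤) trivial
  obtain ⟨W, hW, hxW, hWV'⟩ :=
    exists_isAffineOpen_mem_and_subset (x := x) (U := f ⁻¹ᵁ V) (show f x ∈ V from hx ▸ hyV)
  have hWV : W ≤ f ⁻¹ᵁ V := hWV'
  let φ := (f.appLE V W hWV).hom
  have hφ : φ.FiniteType :=
    HasRingHomProperty.appLE @LocallyOfFiniteType f inferInstance ⟨V, hV⟩ ⟨W, hW⟩ hWV
  have hsq : ∀ w, hV.fromSpec (PrimeSpectrum.comap φ w) = f (hW.fromSpec w) := fun w => by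
    have e := hV.SpecMap_appLE_fromSpec f hW hWV
    exact congr($e w)
  obtain ⟨q, hq⟩ : x ∈ Set.range hW.fromSpec := by rw [hW.range_fromSpec]; exact hxW
  obtain ⟨a, haq, ha⟩ := exists_forall_mem_range φ hφ q
  have hη : hV.fromSpec (PrimeSpectrum.comap φ q) = genericPoint Y :=
    (hsq q).trans ((congrArg f hq).trans hx)
  refine mem_interior.mpr ⟨hV.fromSpec '' ((PrimeSpectrum.basicOpen a : TopologicalSpace.Opens (PrimeSpectrum Γ(Y, V))) : Set (PrimeSpectrum Γ(Y, V))), ?_,
    hV.fromSpec.isOpenEmbedding.isOpenMap _ (PrimeSpectrum.basicOpen a).2, _, haq, hη⟩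
  rintro _ ⟨p, hp, rfl⟩
  have hspec : PrimeSpectrum.comap φ q ⤳ p :=
    hV.fromSpec.isOpenEmbedding.isInducing.specializes_iff.mp
      (hη ▸ genericPoint_specializes _)
  obtain ⟨w, hw⟩ := ha p ((PrimeSpectrum.le_iff_specializes _ _).mpr hspec) hp
  exact ⟨hW.fromSpec w, (hsq w).symm.trans (congrArg _ hw)⟩

end Groth.Agent.Lib.ProCons45.GenericRange
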