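import Groth.Agent.Lib.ProCons45.Basic

/-!
# Pro-constructible sets as images of affine schemes
-/

universe u

open CategoryTheory Limits AlgebraicGeometry TopologicalSpace Topology PrimeSpectrum
open Groth.Agent.Lib.LimTop.PC Groth.Agent.Lib.ProCons45.Basic

namespace Groth.Agent.Lib.ProCons45.Range

/-- A subset of a prime spectrum which is closed for the constructible topology is the image of a
prime spectrum. -/
theorem exists_range_comap_eq {R : Type u} [CommRing R] (Z : Set (PrimeSpectrum R))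
    (hZ : IsClosed[constructibleTopology (PrimeSpectrum R)] Z) :
    ∃ (B : Type u) (_ : CommRing B) (φ : R →+* B), Set.range (PrimeSpectrum.comap φ) = Z := by
  classical
  let ι := {D : BasicConstructibleSetData R // Disjoint D.toSet Z}
  let V := Σ D : ι, Fin D.1.n
  let rel : ι → MvPolynomial V R := fun D =>
    MvPolynomial.C D.1.f * (1 - ∑ i, MvPolynomial.X ⟨D, i⟩ * MvPolynomial.C (D.1.g i))
  let I : Ideal (MvPolynomial V R) := Ideal.span (Set.range rel)
  refine ⟨MvPolynomial V R ⧸ I, inferInstance,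
    (Ideal.Quotient.mk I).comp MvPolynomial.C, Set.Subset.antisymm ?_ fun p hp => ?_⟩
  · rintro _ ⟨q, rfl⟩
    by_contra hq
    obtain ⟨C, hC, hqC, hCZ⟩ := exists_constructible_subset (isOpen_compl_cons.mpr hZ) hq
    obtain ⟨S, rfl⟩ := exists_constructibleSetData_iff.mpr hC
    obtain ⟨D, hD, hqD⟩ := Set.mem_iUnion₂.mp hqC
    have hDZ : Disjoint D.toSet Z := Set.disjoint_left.mpr fun x hx hxZ =>
      hCZ (Set.mem_iUnion₂.mpr ⟨D, hD, hx⟩) hxZ
    simp only [BasicConstructibleSetData.toSet, Set.mem_sdiff, mem_zeroLocus,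
      Set.range_subset_iff, Set.singleton_subset_iff, SetLike.mem_coe, comap_asIdeal,
      Ideal.mem_comap, RingHom.comp_apply] at hqD
    have hrel : Ideal.Quotient.mk I (rel ⟨D, hDZ⟩) ∈ q.asIdeal := by
      rw [Ideal.Quotient.eq_zero_iff_mem.mpr
        (Ideal.subset_span (Set.mem_range_self (⟨D, hDZ⟩ : ι)))]
      exact zero_mem _
    simp only [rel, map_mul] at hrel
    have h1 := (q.isPrime.mem_or_mem hrel).resolve_left hqD.2
    rw [map_sub, map_one] at h1
    have h2 : Ideal.Quotient.mk I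
        (∑ i, MvPolynomial.X ⟨⟨D, hDZ⟩, i⟩ * MvPolynomial.C (D.g i)) ∈ q.asIdeal := by
      rw [map_sum]
      exact Ideal.sum_mem _ fun i _ => by rw [map_mul]; exact Ideal.mul_mem_left _ _ (hqD.1 i)
    exact q.isPrime.ne_top ((Ideal.eq_top_iff_one _).mpr (by simpa using Ideal.add_mem _ h1 h2))
  · let ψ := algebraMap R p.asIdeal.ResidueField
    have hex : ∀ D : ι, ∃ a : Fin D.1.n → p.asIdeal.ResidueField,
        ψ D.1.f * (1 - ∑ i, a i * ψ (D.1.g i)) = 0 := by
      intro D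
      have hnot : p ∉ D.1.toSet := Set.disjoint_right.mp D.2 hp
      by_cases hf : D.1.f ∈ p.asIdeal
      · exact ⟨0, by rw [Ideal.algebraMap_residueField_eq_zero.mpr hf, zero_mul]⟩
      · obtain ⟨i, hi⟩ : ∃ i, D.1.g i ∉ p.asIdeal := by
          by_contra! h
          exact hnot ⟨by rintro _ ⟨i, rfl⟩; exact h i, fun h' => hf (h' rfl)⟩
        refine ⟨Pi.single i (ψ (D.1.g i))⁻¹, ?_⟩
        rw [Finset.sum_eq_single i]
        · rw [Pi.single_eq_same, inv_mul_cancel₀
            (fun h => hi (Ideal.algebraMap_residueField_eq_zero.mp h)), sub_self, mul_zero]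
        · intro j _ hj
          rw [Pi.single_eq_of_ne hj, zero_mul]
        · simp
    choose a ha using hex
    let χ : MvPolynomial V R →+* p.asIdeal.ResidueField :=
      MvPolynomial.eval₂Hom ψ fun v => a v.1 v.2
    have hI : ∀ x ∈ I, χ x = 0 := by
      intro x hx
      refine (Ideal.span_le (I := RingHom.ker χ)).mpr ?_ hx
      rintro _ ⟨D, rfl⟩
      simpa [rel, χ] using ha D
    let χ' := Ideal.Quotient.lift I χ hI
    refine ⟨⟨RingHom.ker χ', RingHom.ker_isPrime χ'⟩, PrimeSpectrum.ext ?_⟩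
    show Ideal.comap ((Ideal.Quotient.mk I).comp MvPolynomial.C) (RingHom.ker χ') = p.asIdeal
    have : χ'.comp ((Ideal.Quotient.mk I).comp MvPolynomial.C) = ψ := by
      ext r; simp [χ', χ]
    rw [RingHom.comap_ker, this]
    exact Ideal.ker_algebraMap_residueField _

variable {X : Scheme.{u}}

theorem exists_range_eq_of_affine [IsAffine X] {Z : Set X}
    (hZ : IsClosed[constructibleTopology X] Z) :
    ∃ (X' : Scheme.{u}) (f : X' ⟶ X), IsAffine X' ∧ Set.range ⇑f = Z := by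
  obtain ⟨B, _, φ, hφ⟩ := exists_range_comap_eq (R := Γ(X, ⊤)) (⇑X.isoSpec.inv ⁻¹' Z)
    (@IsClosed.preimage _ _ (constructibleTopology (Spec Γ(X, ⊤))) (constructibleTopology X) _
      (continuous_cons_of_affine X.isoSpec.inv) _ hZ)
  refine ⟨Spec (.of B), Spec.map (CommRingCat.ofHom φ) ≫ X.isoSpec.inv, inferInstance, ?_⟩
  rw [Scheme.Hom.comp_base, TopCat.coe_comp, Set.range_comp]
  rw [show Set.range ⇑(Spec.map (CommRingCat.ofHom φ)) = ⇑X.isoSpec.inv ⁻¹' Z from hφ]
  exact Set.image_preimage_eq _ X.isoSpec.inv.surjective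

theorem exists_range_eq [CompactSpace X] {E : Set X} (hE : IsPC E) :
    ∃ (X' : Scheme.{u}) (f : X' ⟶ X), IsAffine X' ∧ Set.range ⇑f = E := by
  let U : X → X.Opens := fun x => (X.affineCover.f (X.affineCover.idx x)).opensRange
  obtain ⟨s, hs⟩ := CompactSpace.elim_nhds_subcover (fun x : X => (U x : Set X))
    (fun x => (U x).2.mem_nhds (X.affineCover.covers x))
  have key : ∀ x : (s : Set X), ∃ (X' : Scheme.{u}) (f : X' ⟶ (U x : Scheme.{u})),
      IsAffine X' ∧ Set.range ⇑f = ⇑(U x).ι ⁻¹' E := fun x =>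
    have : IsAffine (U x : Scheme.{u}) := isAffineOpen_opensRange _
    exists_range_eq_of_affine (hE _ (isAffineOpen_opensRange _))
  choose X' f hX' hf using key
  refine ⟨∐ X', Sigma.desc fun x => f x ≫ (U x).ι, inferInstance, Set.Subset.antisymm ?_ ?_⟩
  · rintro _ ⟨z, rfl⟩
    obtain ⟨⟨x, w⟩, rfl⟩ := (sigmaMk X').surjective z
    rw [sigmaMk_mk, ← Scheme.Hom.comp_apply, Sigma.ι_desc, Scheme.Hom.comp_apply]
    exact (hf x).le ⟨w, rfl⟩
  · intro e he
    obtain ⟨x, hx, hex⟩ := Set.mem_iUnion₂.mp (hs.ge (Set.mem_univ e))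
    obtain ⟨w, hw⟩ := (hf ⟨x, hx⟩).ge (show (⟨e, hex⟩ : (U x : Scheme.{u})) ∈ ⇑(U x).ι ⁻¹' E from he)
    refine ⟨Sigma.ι X' ⟨x, hx⟩ w, ?_⟩
    rw [← Scheme.Hom.comp_apply, Sigma.ι_desc, Scheme.Hom.comp_apply, hw]
    rfl

end Groth.Agent.Lib.ProCons45.Range
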